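import Groth.Agent.BunMod.K276.Data
import Groth.Agent.BunMod.K524.X1Curve
import Groth.Agent.BunMod.K524.X1Pt
import Groth.Agent.BunMod.K656.Hom
import Groth.Agent.Fga.MumInputs
import Groth.Agent.VBCurve.K706.TensSS
import Groth.Agent.Coherent.K54.RelCoh
import Groth.Agent.Variety.K420.DetMain

/-!
# The versal family of cokernels exists (helper171, S16926)

`exists_data`: on a smooth proper curve over an algebraically closed field of characteristic zero, for `1 ≤ r`,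
`1 ≤ m`, `N` and `D₀` invertible there is a `K276.Data k X r m N D₀`.
-/

set_option autoImplicit false
universe u

open CategoryTheory CategoryTheory.Limits AlgebraicGeometry
open scoped Groth.Agent.Dcoh.MonCat

namespace K171.Cokd

open Groth.Agent Groth.Agent.VarietyA.DegRank K707.Base K707.Deg K707.Slope K707.Semi K707.TensL K703 K703.TwSS
  K708.SSH0 K708.Coho K708.PtTwist
  K140.BM K524.X1Fam K276 K656.Hom Groth.Agent.Fga.MumInputs K524.X1Curve

section gen

variable {X : Scheme.{u}}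

/-- `B ⊕ O^n ≅ O^{1+n}` for `B ≅ O`. -/
theorem nonempty_iso (n : ℕ) {B : X.Modules} (e : B ≅ Coh.structureModule X) :
    Nonempty (B ⊞ FlatMod.freeMod X n ≅ FlatMod.freeMod X (1 + n)) := by
  obtain ⟨i⟩ := Dcoh.FinLocFree.nonempty_biprod_freeMod_iso X 1 n
  exact ⟨biprod.mapIso (e ≪≫ Ega2.QCohLocal.freeModOneIso X) (Iso.refl _) ≪≫ i⟩

/-- Change of the sum. -/
def congrS {p : ℕ} {N S S' : X.Modules} (s : SumDec p N S) (e : S ≅ S') : SumDec p N S' where
  ι j := s.ι j ≫ e.hom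
  π j := e.inv ≫ s.π j
  tot := by
    have h : ∀ j, (e.inv ≫ s.π j) ≫ s.ι j ≫ e.hom = e.inv ≫ (s.π j ≫ s.ι j) ≫ e.hom := fun j => by
      simp only [Category.assoc]
    rw [Finset.sum_congr rfl fun j _ => h j, ← Preadditive.comp_sum, ← Preadditive.sum_comp, s.tot]
    simp

/-- The dual of a sum of copies of an invertible module, and its decomposition. -/
theorem exists_dual (q : ℕ) {P P' G : X.Modules} (hP' : PicF.IsInvertible P')
    (e : CohB1.tensorMod P' P ≅ Coh.structureModule X) (i : G ≅ CohB1.tensorMod (FlatMod.freeMod X q) P') :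
    ∃ G' : X.Modules, Nonempty (ExactPairing G G') ∧ Nonempty (SumDec q P G') := by
  obtain ⟨P'', ⟨hp⟩, ⟨j⟩⟩ := K54.RelCoh.exists_pairing hP' e
  let _ := Dcoh.MonInst.freePairing X q
  let G' : X.Modules := CohB1.tensorMod P'' (FlatMod.freeMod X q)
  have h1 : ExactPairing (CohB1.tensorMod (FlatMod.freeMod X q) P') G' :=
    (inferInstance : ExactPairing (MonoidalCategoryStruct.tensorObj (FlatMod.freeMod X q) P')
      (MonoidalCategoryStruct.tensorObj P'' (FlatMod.freeMod X q)))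
  refine ⟨G', ⟨exactPairingCongrLeft i⟩, ⟨?_⟩⟩
  exact (congrS (decFree X q P'') (Ega2.Tens.swap (FlatMod.freeMod X q) P'')).congr j

end gen

section fld

variable {k : Type u} [Field k] {X : Scheme.{u}} [X.Over (Spec (CommRingCat.of k))]

/-- `h¹(G ⊗ G') ≤ q² h¹(O)`. -/
theorem h1_le [IsProper (X ↘ Spec (CommRingCat.of k))] {q : ℕ} {P P' G G' : X.Modules}
    (e : CohB1.tensorMod P P' ≅ Coh.structureModule X) (s : SumDec q P' G) (s' : SumDec q P G') :
    Module.finrank k (Coh.HH X (CohB1.tensorMod G G') 1) ≤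
      q * (q * Module.finrank k (Coh.HH X (Coh.structureModule X) 1)) := by
  have t' : SumDec q (Coh.structureModule X) (CohB1.tensorMod G' P') := (s'.map (T P')).congr e
  have t : SumDec q (CohB1.tensorMod G' P') (CohB1.tensorMod G G') :=
    (s.map (T G')).congr (Ega2.Tens.swap P' G')
  have h0 : Module.Finite k (Coh.HH X (Coh.structureModule X) 1) :=
    K708.Coho.finite_HH k (CurvesB.UnitCoh.isCoh_structureModule X) 1
  obtain ⟨h1, h2⟩ := finite_of_dec k t' 1 h0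
  obtain ⟨-, h3⟩ := finite_of_dec k t 1 h1
  exact h3.trans (Nat.mul_le_mul_left q h2)

/-- A basis of `Hom(K, G)`. -/
theorem exists_basis [IsProper (X ↘ Spec (CommRingCat.of k))] {K G : X.Modules} (hK : Coh.IsCoh K)
    (hG : Coh.IsCoh G) :
    ∃ e : Fin (Module.finrank k (K ⟶ G)) → (K ⟶ G), HomBasis (st k X) e ∧
      (∀ a : Fin (Module.finrank k (K ⟶ G)) → k, ua e a = 0 → a = 0) ∧
      ∀ u : K ⟶ G, ∃ a : Fin (Module.finrank k (K ⟶ G)) → k, u = ua e a := by
  have h1 := K703.HomFin.finite_hom k K G hK hG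
  let b := Module.finBasis k (K ⟶ G)
  have h2 : ∀ u : K ⟶ G, u = ua b (b.repr u) := fun u => (b.sum_repr u).symm
  have h3 : ∀ a c : Fin (Module.finrank k (K ⟶ G)) → k, ua b a = ua b c → a = c := by
    intro a c h
    have h4 : ∑ i, a i • b i = ∑ i, c i • b i := h
    have h5 := congrArg b.repr h4
    have h6 : ∀ a : Fin (Module.finrank k (K ⟶ G)) → k, b.repr (∑ i, a i • b i) = a := fun a => b.repr_sum_self a
    rw [← h6 a, h5, h6 c]
  refine ⟨b, fun x => ⟨b.repr x, h2 x, fun c hc => h3 _ _ (hc.symm.trans (h2 x))⟩, fun a ha => h3 a 0 ?_,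
    fun u => ⟨_, h2 u⟩⟩
  rw [ha]
  unfold ua
  symm
  refine Finset.sum_eq_zero fun i _ => ?_
  exact zero_smul k (b i)

/-- Generation by `K` gives an epimorphism from a sum of copies of `K`. -/
theorem epi_desc {K G : X.Modules} (h : Gen K G) {M : ℕ} {e : Fin M → (K ⟶ G)}
    (hs : ∀ u : K ⟶ G, ∃ a : Fin M → k, u = ua e a) : Epi (Limits.Sigma.desc e) := by
  refine Preadditive.epi_of_cancel_zero _ fun {Z} t ht => h Z t fun u => ?_
  obtain ⟨a, rfl⟩ := hs u
  have h1 : ∀ i, e i ≫ t = 0 := fun i => by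
    have h2 : Limits.Sigma.ι (fun _ : Fin M => K) i ≫ Limits.Sigma.desc e = e i := Limits.Sigma.ι_desc _ _
    rw [← h2, Category.assoc, ht, comp_zero]
  unfold ua
  rw [Preadditive.sum_comp]
  refine Finset.sum_eq_zero fun i _ => ?_
  rw [Linear.smul_comp, h1, smul_zero]

end fld

section curve

variable {k : Type u} [Field k] {X : Scheme.{u}} [X.Over (Spec (CommRingCat.of k))] [IsIntegral X]
  [IsProper (X ↘ (Spec (CommRingCat.of k)))]

/-- `S₀ ⊕ F₀ ⊗ N` twisted by `P` is globally generated if `deg P` is large. -/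
theorem gg_sum [IsAlgClosed k] (C : Crv k X) (Dz : Duality.Dualizing k X) {r m : ℕ} (hr : 1 ≤ r) (hm : 1 ≤ m)
    {N P S₀ F₀ V₀ : X.Modules} (hN : PicF.IsInvertible N) (hP : PicF.IsInvertible P)
    (hS : FlatMod.IsFinLocFreeOfRank r S₀) (hS0 : dg k S₀ = 0) (hSs : SS k S₀)
    (hF : FlatMod.IsFinLocFreeOfRank m F₀) (hF0 : dg k F₀ = 0) (hFs : SS k F₀)
    (i : V₀ ≅ S₀ ⊞ CohB1.tensorMod F₀ N) (hV : Coh.IsCoh V₀) (h1 : dg k Dz.w + 2 ≤ dg k P)
    (h2 : dg k Dz.w + 2 ≤ dg k N + dg k P) : Curv2.IsGloballyGenerated ((T P).obj V₀) := by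
  have hr0 : (0 : ℤ) < r := by exact_mod_cast hr
  have hm0 : (0 : ℤ) < m := by exact_mod_cast hm
  have hcS := isCoh_of_rank hS
  have hcF := isCoh_of_rank hF
  have hFN := rank_twist C hN hF
  have hcFN := isCoh_of_rank hFN
  have hVP : Coh.IsCoh ((T P).obj V₀) := coh_tensor (rank_one_iff.mpr hP) hV
  refine K703.GlobGen.isGloballyGenerated_of C Dz hVP fun M hM hd f => ?_
  have e1 : (T P).map (biprod.inl ≫ i.inv) ≫ f = 0 := by
    by_contra hf
    have h3 := Stab.slope_le_of_hom C (ss_twist C hP hcS hSs) (vb_twist C hP (isFinLocFree_of_rank hS)) hM _ hf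
    rw [rk_twist hP hcS, rk_of_rank hS, dg_twist C hP hcS, rk_of_rank hS, hS0] at h3
    nlinarith
  have e2 : (T P).map (biprod.inr ≫ i.inv) ≫ f = 0 := by
    by_contra hf
    have h3 := Stab.slope_le_of_hom C (ss_twist C hP hcFN (ss_twist C hN hcF hFs))
      (vb_twist C hP (isFinLocFree_of_rank hFN)) hM _ hf
    rw [rk_twist hP hcFN, rk_of_rank hFN, dg_twist C hP hcFN, rk_of_rank hFN, dg_twist C hN hcF, rk_of_rank hF,
      hF0] at h3
    nlinarith
  have e3 : 𝟙 V₀ = (i.hom ≫ biprod.fst) ≫ biprod.inl ≫ i.inv + (i.hom ≫ biprod.snd) ≫ biprod.inr ≫ i.inv := by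
    have h4 : (i.hom ≫ biprod.fst) ≫ biprod.inl ≫ i.inv + (i.hom ≫ biprod.snd) ≫ biprod.inr ≫ i.inv =
        i.hom ≫ (biprod.fst ≫ biprod.inl + biprod.snd ≫ biprod.inr) ≫ i.inv := by
      simp only [Category.assoc, Preadditive.add_comp, Preadditive.comp_add]
    rw [h4, biprod.total]
    simp
  have e4 : ∀ {A : X.Modules} (α : V₀ ⟶ A) (β : A ⟶ V₀), (T P).map β ≫ f = 0 → (T P).map (α ≫ β) ≫ f = 0 :=
    fun α β h => by
      have h5 : (T P).map (α ≫ β) = (T P).map α ≫ (T P).map β := (T P).map_comp α β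
      rw [h5, Category.assoc, h, comp_zero]
  have e5 : (T P).map (𝟙 V₀) ≫ f = 0 := by
    rw [e3, Functor.map_add, Preadditive.add_comp, e4 _ _ e1, e4 _ _ e2, add_zero]
  rwa [CategoryTheory.Functor.map_id, Category.id_comp] at e5

theorem dg_extPow (C : Crv k X) {n : ℕ} {E L : X.Modules} (hE : FlatMod.IsFinLocFreeOfRank n E)
    (hL : ExtPow.IsExtPow n E L) : dg k L = dg k E := by
  rw [dg_of_rank k hE, dg_of_rank k (rank_one_iff.mpr (K482.CanonTool.isInvertible_extPow hE hL))]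
  exact (_root_.K420.DetMain.deg_det k C.dim hE hL).symm

/-- A map out of a sum of copies of `P'` vanishes if the degree drops. -/
theorem eq_zero_of_sum (C : Crv k X) {q : ℕ} {P' G M : X.Modules} (hP' : PicF.IsInvertible P')
    (hM : PicF.IsInvertible M) (s : SumDec q P' G) (h : dg k M < dg k P') (f : G ⟶ M) : f = 0 := by
  have h1 : f = (∑ j, s.π j ≫ s.ι j) ≫ f := by rw [s.tot, Category.id_comp]
  rw [h1, Preadditive.sum_comp]
  refine Finset.sum_eq_zero fun j _ => ?_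
  rw [Category.assoc, eq_zero_of_dg_lt C hP' hM h (s.ι j ≫ f), comp_zero]

/-- **The versal family of cokernels exists.** -/
theorem exists_data [IsAlgClosed k] [Smooth (X ↘ (Spec (CommRingCat.of k)))] (hdim : topologicalKrullDim X = 1)
    {r m : ℕ} (hr : 1 ≤ r) (hm : 1 ≤ m) {N D₀ : X.Modules} (hN : PicF.IsInvertible N)
    (hD₀ : PicF.IsInvertible D₀) : Nonempty (Data k X r m N D₀) := by
  have C : Crv k X := Crv.of_smooth hdim
  obtain ⟨Dz⟩ := K703.Duality.nonempty_dualizing k X hdim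
  -- numbers
  set χ : ℤ := Curv2.euler k X (Coh.structureModule X) with hχ
  set h₁ : ℕ := Module.finrank k (Coh.HH X (Coh.structureModule X) 1) with hh₁
  set n : ℕ := r + m with hn
  have hn1 : 1 ≤ n := by omega
  have hn1' : (1 : ℤ) ≤ n := by exact_mod_cast hn1
  obtain ⟨P, hP, hdP⟩ := _root_.K708.PtTwist.exists_inv_ge C (max 0 (max (((1 + n) * ((1 + n) * h₁) : ℕ) + 1 - dg k D₀ - χ)
    (max (dg k Dz.w + 2 - dg k D₀) (max (dg k Dz.w + 2) (max (dg k Dz.w + 2 - dg k N) (1 - χ + |dg k D₀|))))))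
  simp only [max_le_iff] at hdP
  obtain ⟨b0, b1, b2, b3, b4, b5⟩ := hdP
  obtain ⟨P', hP', ⟨eP⟩, ⟨eP'⟩, hdP'⟩ := _root_.K708.PtTwist.exists_inv C hP
  -- `G`
  obtain ⟨hG, hdG⟩ := dg_G (k := k) C (inv_twist C hP hP') hP' n
  have hB : (T P).obj P' ≅ Coh.structureModule X := eP'
  rw [dg_iso k hB, dg_structureModule, zero_add] at hdG
  set G : X.Modules := (T P').obj ((T P).obj P' ⊞ FlatMod.freeMod X n) with hGdef
  obtain ⟨i⟩ := nonempty_iso n hB
  let j : G ≅ CohB1.tensorMod (FlatMod.freeMod X (1 + n)) P' := (T P').mapIso i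
  have sG : SumDec (1 + n) P' G := congrS (decFree X (1 + n) P') j.symm
  obtain ⟨G', ⟨hpair⟩, ⟨sG'⟩⟩ := exists_dual (1 + n) hP' eP' j
  have hG' : FlatMod.IsFinLocFreeOfRank (1 + n) G' := K708.Dual.rank_dual hG G'
  -- `D`, `K`
  obtain ⟨D, hD⟩ := K482.CanonTool.exists_isExtPow (1 + n) (isFinLocFree_of_rank hG)
  have hDi : PicF.IsInvertible D := K482.CanonTool.isInvertible_extPow hG hD
  have hdD : dg k D = dg k G := dg_extPow C hG hD
  obtain ⟨L', hL', -, ⟨eL⟩, hdL'⟩ := _root_.K708.PtTwist.exists_inv C hD₀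
  have hK : PicF.IsInvertible (CohB1.tensorMod D L') := inv_twist C hL' hDi
  set K : X.Modules := CohB1.tensorMod D L' with hKdef
  have hKL : Nonempty (CohB1.tensorMod K D₀ ≅ D) :=
    ⟨Ega2.Tens.assoc D L' D₀ ≪≫ Ega2.Tens.mapTIso (Iso.refl _) eL ≪≫ Ega2.Tens.runit D⟩
  have hdK : dg k K = (1 + n) * dg k P' - dg k D₀ := by
    rw [hKdef, dg_tensor_inv C hL' (coh_inv hDi), rk_inv hDi, hdD, hdG, hdL']
    push_cast
    ring
  obtain ⟨K', hK', ⟨eK⟩, -, hdK'⟩ := _root_.K708.PtTwist.exists_inv C hK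
  have hcK := coh_inv hK
  have hcG := isCoh_of_rank hG
  have hcP' := coh_inv hP'
  obtain ⟨e, he, -, hspan⟩ := exists_basis (k := k) hcK hcG
  obtain ⟨v, -, hv, -⟩ := exists_basis (k := k) hcK hcP'
  refine ⟨⟨K, G, G', P', _, e, rank_one_iff.mpr hK, by rw [add_comm]; exact hG, by rw [add_comm]; exact hG',
    ⟨hpair⟩, hP', ⟨1 + n, sG.ι, sG.π, sG.tot⟩, he, hspan, ⟨_, v, hv, ?_⟩, ?_, ⟨D, hD, hKL⟩, ?_⟩⟩
  · -- big
    refine lt_of_le_of_lt (h1_le eP sG sG') ?_
    have h1 := finrank_hom_eq k hK' eK P'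
    have h2 := K705.Setup.euler_eq C (CohB1.tensorMod P' K')
    rw [euler_eq_dg, dg_tensor_inv C hK' hcP', rk_tensor_inv hK' hcP', rk_inv hP', hdK', hdK, hdP', ← h1] at h2
    push_cast at h2 b1 ⊢
    zify
    nlinarith
  · -- epi
    refine epi_desc (gen_of_hom C Dz hK hK' eK hcG fun M hM hd f => eq_zero_of_sum C hP' hM sG ?_ f) hspan
    rw [hdK, hdP'] at hd
    rw [hdP']
    nlinarith
  · -- onto
    intro E₀ F₀ S₀ V₀ hE₀ hdE₀ hsE₀ hF₀ hdF₀ hsF₀ ⟨hES⟩ ⟨ι⟩ hV₀
    have hS₀ : FlatMod.IsFinLocFreeOfRank r S₀ := K708.Dual.rank_dual hE₀ S₀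
    have hdS₀ : dg k S₀ = 0 := by
      rw [K708.DualDeg.dg_dual C (isFinLocFree_of_rank hE₀) S₀, dg_of_rank k hE₀, hdE₀, neg_zero]
    have hsS₀ : SS k S₀ := K706.TensSS.ss_dual C (isFinLocFree_of_rank hE₀) ((ss_iff C hE₀).2 hsE₀) S₀
    have hFN := rank_twist C hN hF₀
    have hVr : FlatMod.IsFinLocFreeOfRank (r + m) V₀ :=
      rank_iso ι.symm (Krr.H495.Rank.rank_shortExact (biprod_shortExact S₀ (CohB1.tensorMod F₀ N)) hS₀ hFN)
    have hdV : dg k V₀ = dg k D₀ := (dg_extPow C hVr hV₀).symm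
    have hcV := isCoh_of_rank hVr
    have h1 : 0 < Curv2.euler k X (CohB1.tensorMod V₀ P) := by
      rw [euler_eq_dg, dg_tensor_inv C hP hcV, rk_tensor_inv hP hcV, rk_of_rank hVr, hdV]
      have h2 := neg_abs_le (dg k D₀)
      have h3 := abs_nonneg (dg k D₀)
      nlinarith
    obtain ⟨g, hg⟩ := (sec_iff hP eP' V₀).1 (_root_.K708.PtTwist.exists_section C h1)
    obtain ⟨u, hu⟩ := exists_map C hD₀ hP eP hP' hP'
      (K703.GlobGen.isGloballyGenerated_of_epi_freeMod ((Ega2.QCohLocal.freeModOneIso X).inv ≫ hB.inv))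
      (gg_sum C Dz hr hm hN hP hS₀ hdS₀ hsS₀ hF₀ (by rw [dg_of_rank k hF₀, hdF₀]) ((ss_iff C hF₀).2 hsF₀) ι hcV
        (by linarith) (by linarith)) hVr hV₀ hD hKL hg
    obtain ⟨a, rfl⟩ := hspan u
    exact ⟨a, hu⟩

end curve

end K171.Cokd
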