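import Groth.Agent.BunMod.K524.X1Fam
import Groth.Agent.BunMod.K54.Theta
import Mathlib.RingTheory.AlgebraicIndependent.Basic
import Mathlib.RingTheory.PowerSeries.Basic
import Mathlib.RingTheory.Localization.FractionRing

/-!
# S16926 (numerical strange duality): the notation of the proof

`X` a curve over `k`, `N` an invertible module of degree `g - 1` on `X`, `n = r + m`.

* `Cok k X n g` : the data `K, P, P' = P⁻¹, G ≅ P'^(n+1), e_1, …, e_M` (generators of `Hom(K, G)`), `D₀`, of a family of
  cokernels; `C.V T c = coker(∑ c_i e_i : K_T ⟶ G_T)` for functions `c_i` on `T`.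
* `Pr C N r m T c` : a subbundle `S` of `V = C.V T c` with quotient `Q`, and the bundles `E = S^∨`, `F = Q ⊗ N⁻¹`, which are
  families of semistable bundles of ranks `r`, `m` and degree `0`.
* `thI N R E` : the theta ideal `Fitt_0 H¹(X_R, E ⊗ N)` of a family over `Spec R`, as an ideal of `R`.
* `Val k X r A` : a theory of values of the elements of `A` (sections of a line bundle on the moduli space) at families over
  `Spec R`: `rel R E v` says that `v : A → R` is the evaluation at `E` for some trivialization.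
* `DetRel`, `TVal` : the section `T = ∑ a_l ⊗ b_l` cutting out the theta divisor of `E ⊗ F`.
-/

set_option autoImplicit false

universe u

open CategoryTheory CategoryTheory.Limits AlgebraicGeometry

namespace K171.SD

open K140.BM K824.Join MonoidalCategory
open scoped Groth.Agent.Dcoh.MonCat

variable (k : Type u) [Field k] (X : Scheme.{u}) [X.Over (Spec (CommRingCat.of k))]

/-- The data of a family of cokernels of maps `K ⟶ G ≅ P'^(n+1)` with determinant `D₀`; `g` is the genus. -/
structure Cok (n g : ℕ) where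
  /-- the source -/
  K : X.Modules
  /-- `P = L₀⁻¹`, positive -/
  P : X.Modules
  /-- `P' = L₀`, negative -/
  P' : X.Modules
  /-- the target -/
  G : X.Modules
  /-- the determinant of the cokernels -/
  D₀ : X.Modules
  /-- the number of parameters -/
  M : ℕ
  /-- the maps -/
  e : Fin M → (K ⟶ G)
  hK : PicF.IsInvertible K
  hP : PicF.IsInvertible P
  hP' : PicF.IsInvertible P'
  hD₀ : PicF.IsInvertible D₀
  eP : Nonempty (CohB1.tensorMod P P' ≅ Coh.structureModule X)
  eG : Nonempty (G ≅ ⨁ fun _ : Fin (n + 1) => P')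
  /-- the maps generate `Hom(K, G)` -/
  gen : ∀ x : K ⟶ G, ∃ c : Fin M → k, x = K524.X1Fam.ua e c
  /-- `det G = K ⊗ D₀` -/
  det : ∃ D : X.Modules, ExtPow.IsExtPow (1 + n) G D ∧ Nonempty (CohB1.tensorMod K D₀ ≅ D)
  /-- `h⁰(K⁻¹ ⊗ P') > (n+1) g` (`K'` the inverse of `K`) -/
  big : ∃ K' : X.Modules, PicF.IsInvertible K' ∧ Nonempty (CohB1.tensorMod K K' ≅ Coh.structureModule X) ∧
    (n + 1) * g < Module.finrank k (Coh.HH X (CohB1.tensorMod K' P') 0)

variable {k X}

/-- The cokernel family. -/
noncomputable abbrev Cok.V {n g : ℕ} (C : Cok k X n g) (T : Over (B0 k)) (c : Fin C.M → Γ(T.left, ⊤)) :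
    (PicF.XT (st k X) T).Modules := K524.X1Fam.FE C.e T c

/-- Functions on `Spec R` from elements of `R`. -/
noncomputable abbrev fn {ι : Type} {R : Type u} [CommRing R] (c : ι → R) : ι → Γ(Spec (CommRingCat.of R), ⊤) :=
  fun i => kOf R (c i)

/-- A subbundle `S` of the family `V_c`, with quotient `Q`, and the semistable bundles `E = S^∨` and `F = Q ⊗ N⁻¹`. -/
structure Pr {n g : ℕ} (C : Cok k X n g) (N : X.Modules) (r m : ℕ) (T : Over (B0 k))
    (c : Fin C.M → Γ(T.left, ⊤)) where
  /-- the subbundle -/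
  S : (PicF.XT (st k X) T).Modules
  /-- the quotient -/
  Q : (PicF.XT (st k X) T).Modules
  /-- the dual of the subbundle -/
  E : (PicF.XT (st k X) T).Modules
  /-- the quotient twisted -/
  F : (PicF.XT (st k X) T).Modules
  /-- the inclusion -/
  i : S ⟶ C.V T c
  /-- the projection -/
  p : C.V T c ⟶ Q
  w : i ≫ p = 0
  ex : (ShortComplex.mk i p w).ShortExact
  pair : Nonempty (ExactPairing S E)
  eF : Nonempty (Q ≅ CohB1.tensorMod F (cst k T N))
  hE : BunMod.ussOK (st k X) r 0 T E
  hF : BunMod.ussOK (st k X) m 0 T F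

/-- The theta ideal `Fitt_0 H¹(X_R, E ⊗ N)` as an ideal of `R`. -/
noncomputable def thI (N : X.Modules) (R : Type u) [CommRing R] [Algebra k R]
    (E : (PicF.XT (st k X) (sA k R)).Modules) : Ideal R :=
  ((thetaIdeal k N (sA k R) E).ideal ⟨⊤, isAffineOpen_top (Spec (CommRingCat.of R))⟩).comap (kOf R)

variable (k X) in
/-- Values of the elements of `A` at families of semistable bundles of rank `r` and degree `0` over `Spec R`: `rel R E v`
says that `v` is the evaluation at `E` for some trivialization of the line bundle over `Spec R`. -/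
structure Val (r : ℕ) (A : Type u) [AddCommGroup A] [Module k A] where
  /-- `v` is an evaluation at `E` -/
  rel : ∀ (R : Type u) [CommRing R] [Algebra k R] (_ : (PicF.XT (st k X) (sA k R)).Modules) (_ : A →ₗ[k] R), Prop
  ex : ∀ (R : Type u) [CommRing R] [Algebra k R] [IsLocalRing R] (E : (PicF.XT (st k X) (sA k R)).Modules),
    BunMod.ussOK (st k X) r 0 (sA k R) E → ∃ v, rel R E v
  pull : ∀ {R R' : Type u} [CommRing R] [Algebra k R] [CommRing R'] [Algebra k R'] (φ : R →ₐ[k] R')
    {E : (PicF.XT (st k X) (sA k R)).Modules} {v : A →ₗ[k] R}, BunMod.ussOK (st k X) r 0 (sA k R) E →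
    rel R E v → rel R' (pl k X (mA φ) E) (φ.toLinearMap ∘ₗ v)
  iso : ∀ {R : Type u} [CommRing R] [Algebra k R] {E E' : (PicF.XT (st k X) (sA k R)).Modules} {v : A →ₗ[k] R},
    Nonempty (E ≅ E') → rel R E v → rel R E' v
  unique : ∀ {R : Type u} [CommRing R] [Algebra k R] {E : (PicF.XT (st k X) (sA k R)).Modules} {v v' : A →ₗ[k] R},
    BunMod.ussOK (st k X) r 0 (sA k R) E → rel R E v → rel R E v' → ∃ u : Rˣ, ∀ a, v' a = u * v a

/-- `det F = ζ ⊗ det E` up to a twist from the base. -/
def DetRel (ζ : X.Modules) (r m : ℕ) (T : Over (B0 k)) (E F : (PicF.XT (st k X) T).Modules) : Prop :=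
  ∃ D₁ D₂ : (PicF.XT (st k X) T).Modules, ExtPow.IsExtPow r E D₁ ∧ ExtPow.IsExtPow m F D₂ ∧
    (ModFun.modProb (st k X)).r T (CohB1.tensorMod D₁ (cst k T ζ)) D₂

/-- The element `T = ∑ a_l ⊗ b_l` cuts out the theta divisor of `E ⊗ F` on the pairs with `det F = ζ ⊗ det E`. -/
def TVal (N ζ : X.Modules) {r m : ℕ} {A B : Type u} [AddCommGroup A] [Module k A] [AddCommGroup B] [Module k B]
    (V₁ : Val k X r A) (V₂ : Val k X m B) {ι : Type} [Fintype ι] (a : ι → A) (b : ι → B) : Prop :=
  ∀ (R : Type u) [CommRing R] [Algebra k R] [IsLocalRing R] (E F : (PicF.XT (st k X) (sA k R)).Modules)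
    (v : A →ₗ[k] R) (w : B →ₗ[k] R), BunMod.ussOK (st k X) r 0 (sA k R) E → BunMod.ussOK (st k X) m 0 (sA k R) F →
    DetRel ζ r m (sA k R) E F → V₁.rel R E v → V₂.rel R F w →
    thI N R (CohB1.tensorMod E F) = Ideal.span {∑ l, v (a l) * w (b l)}

/-- The coordinates over the function field of the parameter space. -/
noncomputable abbrev crd (k : Type u) [Field k] (M : ℕ) : Fin M → FractionRing (MvPolynomial (Fin M) k) :=
  fun i => algebraMap (MvPolynomial (Fin M) k) _ (MvPolynomial.X i)

end K171.SD
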