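import Groth.Agent.BunMod.K429.SdRow
import Groth.Agent.BunMod.K429.Val
import Groth.Agent.BunMod.K596.JB
import Groth.Agent.BunMod.K527.SymTheta

/-!
# The row S16926 from the structure theorem and the inequality of numerical strange duality

`Ineq`: the conclusion `h⁰(M₁, Θ₁^m ⊗ d₁^* ΘJ) ≤ h⁰(M₂, Θ₂^r ⊗ d₂^* ΘJ)`; `row`: the row.
-/

set_option autoImplicit false
universe u
open CategoryTheory CategoryTheory.Limits AlgebraicGeometry MonoidalCategory CartesianMonoidalCategory MonObj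
open Groth.Agent Groth.Agent.BunMod.K596

namespace K171.Top

/-- `h⁰(M₁, Θ₁^m ⊗ d₁^* ΘJ) ≤ h⁰(M₂, Θ₂^r ⊗ d₂^* ΘJ)`. -/
def Ineq {k : Type u} [Field k] (r m : ℕ) {J : Over (Spec (CommRingCat.of k))} (ΘJ : J.left.Modules)
    {M₁ : Over (Spec (CommRingCat.of k))} (Θ₁ : M₁.left.Modules) (d₁ : M₁ ⟶ J)
    {M₂ : Over (Spec (CommRingCat.of k))} (Θ₂ : M₂.left.Modules) (d₂ : M₂ ⟶ J) : Prop :=
  Module.finrank k (K429.Val.H0 M₁ (CohB1.tensorMod (CohB1.tensorPow Θ₁ m)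
      ((Scheme.Modules.pullback d₁.left).obj ΘJ))) ≤
    Module.finrank k (K429.Val.H0 M₂ (CohB1.tensorMod (CohB1.tensorPow Θ₂ r)
      ((Scheme.Modules.pullback d₂.left).obj ΘJ)))

/-- **The row S16926, modulo the structure theorem and the two inequalities.** -/
theorem row (k : Type u) [Field k] [IsAlgClosed k] [CharZero k]
    (X : Scheme.{u}) [X.Over (Spec (CommRingCat.of k))]
    [IsProper (X ↘ Spec (CommRingCat.of k))] [Smooth (X ↘ Spec (CommRingCat.of k))]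
    [GeometricallyConnected (X ↘ Spec (CommRingCat.of k))] (hdim : topologicalKrullDim ↥X = 1)
    (g : ℕ) (hg : Curv2.genus k X = g) (hg1 : 1 ≤ g)
    (r m : ℕ) (hr : 1 ≤ r) (hm : 1 ≤ m) (N : X.Modules) (hN : PicF.IsInvertible N)
    (hNdeg : Curv2.deg k X N 1 = (g : ℤ) - 1)
    (hNth : Nonempty (CohB1.tensorMod N N ≅ Omega.sheaf (X ↘ Spec (CommRingCat.of k))))
    (J : Over (Spec (CommRingCat.of k))) [GrpObj J] [IsCommMonObj J]
    (ψ : (ModFun.PicDeg (X ↘ Spec (CommRingCat.of k)) 0).Hom ⊤ J)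
    (hJ : Jac.IsJacobian (X ↘ Spec (CommRingCat.of k)) ⊤ J ψ)
    (ΘJ : J.left.Modules) (hΘJ : Jac.IsThetaLB (X ↘ Spec (CommRingCat.of k)) 0 ψ N ΘJ)
    (φJ : AgPol.DualMap J J) (hsd : Jac.IsSelfDual Scheme.fppfPrecoverage J φJ ΘJ)
    (P : (pullback J.hom J.hom).Modules) (hP : PicF.IsInvertible P) (hPP : AbDual.IsPoincareCl J J φJ (PicF.cl P))
    [HasInjectiveResolutions (pullback J.hom J.hom).Modules]
    (M₁ : Over (Spec (CommRingCat.of k))) (Θ₁ : M₁.left.Modules) (hΘ₁ : PicF.IsInvertible Θ₁)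
    (d₁ : M₁ ⟶ J) (hstr₁ : Nonempty (Str r d₁ Θ₁ ΘJ))
    (M₂ : Over (Spec (CommRingCat.of k))) (Θ₂ : M₂.left.Modules) (hΘ₂ : PicF.IsInvertible Θ₂)
    (d₂ : M₂ ⟶ J) (hstr₂ : Nonempty (Str m d₂ Θ₂ ΘJ))
    (h12 : Ineq r m ΘJ Θ₁ d₁ Θ₂ d₂) (h21 : Ineq m r ΘJ Θ₂ d₂ Θ₁ d₁) :
    Nonempty ((Scheme.Modules.pullback ((𝟙 J) ^ r : J ⟶ J).left).obj
        (RefHull.dual ((Scheme.Modules.pushforward d₁.left).obj (CohB1.tensorPow Θ₁ m))) ≅
      (Scheme.Modules.pullback ((𝟙 J) ^ r : J ⟶ J).left).obj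
        ((Coh.Rpush (pullback.snd J.hom J.hom) 0).obj
        (CohB1.tensorMod ((Scheme.Modules.pullback (pullback.fst J.hom J.hom)).obj
          ((Scheme.Modules.pushforward d₂.left).obj (CohB1.tensorPow Θ₂ r))) P))) := by
  obtain ⟨S₁⟩ := hstr₁
  obtain ⟨S₂⟩ := hstr₂
  have hPJ : PPAV g J ΘJ := JB.ppav k X hdim g hg hg1 N hN hNdeg J ψ hJ ΘJ hΘJ
  have hs : Sym J ΘJ := K527.SymTheta.sym k X hdim g hg hg1 N hN hNdeg hNth J ψ hJ ΘJ hΘJ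
  exact K429.SdRow.row_str hPJ hs φJ hsd P hP hPP hr hm hΘ₁ hΘ₂ S₁ S₂ (le_antisymm h12 h21)

end K171.Top
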